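import Cfsg.Agent.ChevalleyStructure.TwE6Basic
import Cfsg.Agent.ChevalleyStructure.TwistedE6G
import Cfsg.Agent.S1032
import Cfsg.Agent.S1033
import Cfsg.Agent.S1034
import Cfsg.Agent.S1038
import Cfsg.Agent.H136.TwoGen
import Cfsg.Agent.H136.FieldLem

/-!
# ²E₆(q) is 2-generated (helper136)
-/

set_option autoImplicit false

namespace Cfsg.Agent.H136.TwE6

open Cfsg.Lie Cfsg.Agent.ChevalleyStructure.TwE6Basic
open Cfsg.Agent.ChevalleyStructure.Elts (hG nG xG coe_hG coe_xG hG_def nG_def wordG_cons wordG_nil eq_hG_iff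
  hG_mem_diagonal nG_one_mem_monomial)

universe u

variable {K : Type u} [Field K] {φ : K →+* K} {q : ℕ}

/-! ### uniqueness for the pair (56, 36) -/

theorem x_56_36 {t u : K} (h : x 56 t = x 36 u) : t = 0 := by
  have h0 : chevE6.x K 56 t = chevE6.x K 36 u := congrArg Units.val h
  have h1 : (chevE6.x K 56 t) (Sum.inr ⟨56, by decide⟩) (Sum.inl ⟨2, by decide⟩) =
      (chevE6.x K 36 u) (Sum.inr ⟨56, by decide⟩) (Sum.inl ⟨2, by decide⟩) := by rw [h0]
  rw [Cfsg.Agent.ChevalleyStructure.Elts.x_of_lt (by decide), Cfsg.Agent.ChevalleyStructure.Elts.x_of_lt (by decide)]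
    at h1
  have h2 : (chevE6.cartanSR.getD 2 #[]).getD 56 0 = -1 := by decide +kernel
  simp only [ChevalleyDatum.xMat, Matrix.of_apply, h2] at h1
  simpa using h1

theorem x_36_56 {t u : K} (h : x 36 t = x 56 u) : t = 0 := by
  have h1 := x_56_36 h.symm
  rw [h1, x_zero] at h
  exact (x_eq_one_iff (by norm_num) t).1 h

theorem c56 (t u : K) : x 36 u * x 56 t = x 56 t * x 36 u :=
  comm_class (i := 3) (by decide +kernel) (by decide +kernel) (by decide) (by decide +kernel) t u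

theorem sg56 (t : K) : sg φ (x 56 t) = x 36 (φ t) :=
  sg_x_class φ (i := 3) (r := 56) (by decide +kernel) t

theorem sg36 (t : K) : sg φ (x 36 t) = x 56 (φ t) :=
  sg_x_class φ (i := 3) (r := 36) (by decide +kernel) t

theorem pair_inj {a b c d : K} (h : x 56 a * x 36 b = x 56 c * x 36 d) : a = c ∧ b = d := by
  have h1 : x 56 (a - c) = x 36 (d - b) := by
    rw [sub_eq_neg_add, sub_eq_add_neg, ← x_add, ← x_inv, ← x_add, ← x_inv]
    rw [eq_mul_inv_iff_mul_eq, mul_assoc, h, inv_mul_cancel_left]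
  have h2 := x_56_36 h1
  have h3 := x_36_56 h1.symm
  exact ⟨sub_eq_zero.1 h2, (sub_eq_zero.1 h3).symm⟩

theorem fix56 {a b : K} (h : x 56 a * x 36 b ∈ fix φ) : b = φ a := by
  rw [mem_fix, map_mul, sg56, sg36, c56] at h
  exact (pair_inj h).2.symm

/-! ### the element `w` -/

/-- the permutation of the roots -/
def W (r : Fin 72) : Fin 72 := wP 0 (wP 1 (wP 2 (wP 3 r)))

/-- the element `w = n₀ n₁ n₂ n₃` -/
def w (K : Type u) [Field K] : GL chevE6.Idx K := n 0 * n 1 * n 2 * n 3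

theorem rho_W (r : Fin 72) : rho (W r) = W (rho r) := by
  unfold W
  rw [rho_wP, rho_wP, rho_wP, rho_wP]

theorem w_conj (s : Fin 72) : ∃ η : K, η ≠ 0 ∧ ∀ t : K, w K * x s.val t * (w K)⁻¹ = x (W s).val (η * t) := by
  obtain ⟨a, ha, h1⟩ := n_conj (K := K) 3 s.isLt
  obtain ⟨b, hb, h2⟩ := n_conj (K := K) 2 (wP 3 s).isLt
  obtain ⟨c, hc, h3⟩ := n_conj (K := K) 1 (wP 2 (wP 3 s)).isLt
  obtain ⟨d, hd, h4⟩ := n_conj (K := K) 0 (wP 1 (wP 2 (wP 3 s))).isLt
  refine ⟨d * (c * (b * a)), mul_ne_zero hd (mul_ne_zero hc (mul_ne_zero hb ha)), fun t => ?_⟩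
  have e : w K * x s.val t * (w K)⁻¹ =
      n 0 * (n 1 * (n 2 * (n 3 * x s.val t * (n 3)⁻¹) * (n 2)⁻¹) * (n 1)⁻¹) * (n 0)⁻¹ := by
    rw [w]; group
  rw [e, h1]
  change n 0 * (n 1 * (n 2 * x (wP 3 s).val (a * t) * (n 2)⁻¹) * (n 1)⁻¹) * (n 0)⁻¹ = _
  rw [h2]
  change n 0 * (n 1 * x (wP 2 (wP 3 s)).val (b * (a * t)) * (n 1)⁻¹) * (n 0)⁻¹ = _
  rw [h3]
  change n 0 * x (wP 1 (wP 2 (wP 3 s))).val (c * (b * (a * t))) * (n 0)⁻¹ = _
  rw [h4]
  change x (W s).val _ = _
  congr 1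
  ring

theorem w_conj_inv (s : Fin 72) : ∃ η : K, η ≠ 0 ∧ ∀ t : K, (w K)⁻¹ * x (W s).val t * w K = x s.val (η * t) := by
  obtain ⟨a, ha, h⟩ := w_conj (K := K) s
  refine ⟨a⁻¹, inv_ne_zero ha, fun t => ?_⟩
  have h1 := h (a⁻¹ * t)
  rw [mul_inv_cancel_left₀ ha] at h1
  rw [← h1]; group

/-- membership of the short root group of `r` in `M` -/
def Short (φ : K →+* K) (M : Subgroup (GL chevE6.Idx K)) (r : Fin 72) : Prop :=
  ∀ a b : K, x r.val a * x (rho r).val b ∈ fix φ → x r.val a * x (rho r).val b ∈ M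

/-- membership of the long root group of `r` in `M` -/
def Long (φ : K →+* K) (M : Subgroup (GL chevE6.Idx K)) (r : Fin 72) : Prop :=
  ∀ a : K, x r.val a ∈ fix φ → x r.val a ∈ M

section closure

variable {M : Subgroup (GL chevE6.Idx K)} (hwM : w K ∈ M) (hwf : w K ∈ fix φ)

include hwM hwf

theorem Short.W {r : Fin 72} (h : Short φ M r) : Short φ M (W r) := by
  intro a b hab
  obtain ⟨η, hη, h1⟩ := w_conj_inv (K := K) r
  obtain ⟨η', hη', h2⟩ := w_conj_inv (K := K) (rho r)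
  rw [rho_W] at hab ⊢
  have e : (w K)⁻¹ * (x (TwE6.W r).val a * x (TwE6.W (rho r)).val b) * w K =
      x r.val (η * a) * x (rho r).val (η' * b) := by
    rw [← h1, ← h2]; group
  have h3 : x r.val (η * a) * x (rho r).val (η' * b) ∈ fix φ := by
    rw [← e]
    exact mul_mem (mul_mem (inv_mem hwf) hab) hwf
  have h4 := h _ _ h3
  rw [← e] at h4
  have h5 := M.mul_mem (M.mul_mem hwM h4) (M.inv_mem hwM)
  have e2 : ∀ g : GL chevE6.Idx K, w K * ((w K)⁻¹ * g * w K) * (w K)⁻¹ = g := by intro g; group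
  rwa [e2] at h5

theorem Long.W {r : Fin 72} (h : Long φ M r) : Long φ M (W r) := by
  intro a hab
  obtain ⟨η, hη, h1⟩ := w_conj_inv (K := K) r
  have e := h1 a
  have h3 : x r.val (η * a) ∈ fix φ := by
    rw [← e]
    exact mul_mem (mul_mem (inv_mem hwf) hab) hwf
  have h4 := h _ h3
  rw [← e] at h4
  have h5 := M.mul_mem (M.mul_mem hwM h4) (M.inv_mem hwM)
  have e2 : ∀ g : GL chevE6.Idx K, w K * ((w K)⁻¹ * g * w K) * (w K)⁻¹ = g := by intro g; group
  rwa [e2] at h5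

theorem Short.iter {r : Fin 72} (h : Short φ M r) (k : ℕ) : Short φ M (TwE6.W^[k] r) := by
  induction k with
  | zero => exact h
  | succ k ih =>
    rw [Function.iterate_succ_apply']
    exact Short.W hwM hwf ih

theorem Long.iter {r : Fin 72} (h : Long φ M r) (k : ℕ) : Long φ M (TwE6.W^[k] r) := by
  induction k with
  | zero => exact h
  | succ k ih =>
    rw [Function.iterate_succ_apply']
    exact Long.W hwM hwf ih

end closure

/-! ### the commutator -/

theorem comm_x {r s : ℕ} (hr : r < 72) (hs : s < 72) (hrs : s ≠ r) (hneg : s ≠ chevE6.neg r) {k : ℕ} {c : ℤ}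
    (h : chevE6.commTerms r s = [(k, c, 1, 1)]) (t u : K) :
    x s u * x r t = x r t * x s u * x k ((c : K) * (-t) * u) := by
  apply Units.ext
  show chevE6.x K s u * chevE6.x K r t = chevE6.x K r t * chevE6.x K s u * chevE6.x K k _
  rw [Cfsg.Agent.S1025.result chevE6 hE6 r s hr hs hrs hneg t u]
  have : chevE6.commWord K r s t u = [(k, (c : K) * (-t) * u)] := by
    show (chevE6.commTerms r s).map _ = _
    rw [h]; simp
  rw [this, Cfsg.Agent.ChevalleyStructure.Elts.wordMat_cons, Cfsg.Agent.ChevalleyStructure.Elts.wordMat_nil, mul_one]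

set_option maxRecDepth 100000 in
theorem terms : chevE6.commTerms 40 34 = [(39, -1, 1, 1)] ∧ chevE6.commTerms 43 29 = [(39, 1, 1, 1)] ∧
    chevE6.commTerms 40 43 = [] ∧ chevE6.commTerms 40 29 = [] ∧ chevE6.commTerms 43 34 = [] ∧
    chevE6.commTerms 29 34 = [] ∧ chevE6.commTerms 39 40 = [] ∧ chevE6.commTerms 39 43 = [] ∧
    chevE6.commTerms 39 29 = [] ∧ chevE6.commTerms 39 34 = [] := by decide +kernel

/-- abstract commutator computation -/
theorem comm2 {G : Type*} [Group G] {a b c d p r : G} (hda : d * a = a * d * p) (hcb : c * b = b * c * r)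
    (hca : c * a = a * c) (hdb : d * b = b * d)
    (hp : ∀ g ∈ ({a, b, c, d} : Set G), g * p = p * g ∧ g * r = r * g) :
    (c * d) * (a * b) * (c * d)⁻¹ * (a * b)⁻¹ = p * r := by
  have ha := hp a (by simp)
  have hb := hp b (by simp)
  have hc := hp c (by simp)
  have hd := hp d (by simp)
  have key : (c * d) * (a * b) = p * r * ((a * b) * (c * d)) := by
    calc (c * d) * (a * b) = c * (d * a) * b := by group
      _ = (c * a) * d * (p * b) := by rw [hda]; group
      _ = a * c * (d * b) * p := by rw [hca, ← hb.1]; group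
      _ = a * (c * b) * d * p := by rw [hdb]; group
      _ = a * b * c * (r * d) * p := by rw [hcb]; group
      _ = a * b * c * d * r * p := by rw [← hd.2]; group
      _ = a * b * c * (d * r) * p := by group
      _ = a * b * (c * r) * d * p := by rw [hd.2]; group
      _ = a * (b * r) * c * d * p := by rw [hc.2]; group
      _ = (a * r) * b * c * d * p := by rw [hb.2]; group
      _ = r * a * b * c * (d * p) := by rw [ha.2]; group
      _ = r * a * b * (c * p) * d := by rw [hd.1]; group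
      _ = r * a * (b * p) * c * d := by rw [hc.1]; group
      _ = r * (a * p) * b * c * d := by rw [hb.1]; group
      _ = (r * p) * a * b * c * d := by rw [ha.1]; group
      _ = (p * r) * a * b * c * d := by
        congr 4
        -- `r` and `p` commute since `r = (b c)⁻¹ c b`
        have hr : r = (b * c)⁻¹ * (c * b) := by rw [hcb]; group
        have h1 : (b * c) * p = p * (b * c) := by
          calc (b * c) * p = b * (c * p) := by group
            _ = (b * p) * c := by rw [hc.1]; group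
            _ = p * (b * c) := by rw [hb.1]; group
        have h2 : (c * b) * p = p * (c * b) := by
          calc (c * b) * p = c * (b * p) := by group
            _ = (c * p) * b := by rw [hb.1]; group
            _ = p * (c * b) := by rw [hc.1]; group
        have h3 : (b * c)⁻¹ * p = p * (b * c)⁻¹ := by
          rw [inv_mul_eq_iff_eq_mul, ← mul_assoc, h1, mul_inv_cancel_right]
        rw [hr, mul_assoc, h2, ← mul_assoc, h3, mul_assoc]
      _ = p * r * ((a * b) * (c * d)) := by group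
  rw [key]; group

theorem commutator_eq (a b : K) : (x 29 1 * x 34 1) * (x 40 a * x 43 b) * (x 29 1 * x 34 1)⁻¹ * (x 40 a * x 43 b)⁻¹ =
    x 39 (a - b) := by
  obtain ⟨t1, t2, t3, t4, t5, t6, t7, t8, t9, t10⟩ := terms
  have l : ∀ {r s : ℕ}, r < 72 → s < 72 → s ≠ r → s ≠ chevE6.neg r → chevE6.commTerms r s = [] → ∀ t u : K,
      x s u * x r t = x r t * x s u := fun h1 h2 h3 h4 h5 t u => comm_of_commTerms h1 h2 h3 h4 h5 t u
  rw [comm2 (comm_x (by norm_num) (by norm_num) (by norm_num) (by decide +kernel) t1 a 1)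
    (comm_x (by norm_num) (by norm_num) (by norm_num) (by decide +kernel) t2 b 1)
    (l (by norm_num) (by norm_num) (by norm_num) (by decide +kernel) t4 _ _)
    (l (by norm_num) (by norm_num) (by norm_num) (by decide +kernel) t5 _ _)
    (by
      intro g hg
      simp only [Set.mem_insert_iff, Set.mem_singleton_iff] at hg
      rcases hg with rfl | rfl | rfl | rfl
      · exact ⟨l (by norm_num) (by norm_num) (by norm_num) (by decide +kernel) t7 _ _,
          l (by norm_num) (by norm_num) (by norm_num) (by decide +kernel) t7 _ _⟩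
      · exact ⟨l (by norm_num) (by norm_num) (by norm_num) (by decide +kernel) t8 _ _,
          l (by norm_num) (by norm_num) (by norm_num) (by decide +kernel) t8 _ _⟩
      · exact ⟨l (by norm_num) (by norm_num) (by norm_num) (by decide +kernel) t9 _ _,
          l (by norm_num) (by norm_num) (by norm_num) (by decide +kernel) t9 _ _⟩
      · exact ⟨l (by norm_num) (by norm_num) (by norm_num) (by decide +kernel) t10 _ _,
          l (by norm_num) (by norm_num) (by norm_num) (by decide +kernel) t10 _ _⟩), x_add]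
  congr 1
  push_cast
  ring

theorem eps40 : epsE 40 = -1 ∧ epsE 43 = -1 ∧ rho 40 = 43 ∧ rho 43 = 40 := by decide +kernel

theorem mem40 (hφφ : ∀ t, φ (φ t) = t) (a : K) : x 40 a * x 43 (-φ a) ∈ fix φ := by
  obtain ⟨e1, e2, r1, r2⟩ := eps40
  have h1 : sg φ (x 40 a) = x 43 (-φ a) := by
    have := sg_x φ (40 : Fin 72) a
    change sg φ (x 40 a) = x (rho 40).val ((epsE 40 : K) * φ a) at this
    rw [this, e1, r1]
    show x 43 _ = x 43 _
    congr 1
    push_cast; ring
  have h2 : sg φ (x 43 (-φ a)) = x 40 a := by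
    have := sg_x φ (43 : Fin 72) (-φ a)
    change sg φ (x 43 (-φ a)) = x (rho 43).val ((epsE 43 : K) * φ (-φ a)) at this
    rw [this, e2, r2]
    show x 40 _ = x 40 _
    congr 1
    rw [map_neg, hφφ]
    push_cast; ring
  rw [mem_fix, map_mul, h1, h2]
  exact comm_of_commTerms (by norm_num) (by norm_num) (by norm_num) (by decide +kernel) terms.2.2.1 _ _

theorem long39 (hφφ : ∀ t, φ (φ t) = t) (htr : ∀ v, φ v = v → ∃ t, t + φ t = v)
    {M : Subgroup (GL chevE6.Idx K)} (h40 : Short φ M 40) (h29 : Short φ M 29) (h1 : x 29 (1 : K) * x 34 1 ∈ fix φ) :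
    Long φ M 39 := by
  obtain ⟨e1, e2, r1, r2⟩ := eps40
  have r3 : rho 29 = 34 := by decide +kernel
  intro v hv
  have hv' : φ v = v := by
    have h2 := sg_x_class φ (i := 1) (r := 39) (by decide +kernel) v
    have r4 : rho 39 = 39 := by decide +kernel
    rw [r4] at h2
    change sg φ (x 39 v) = x 39 (φ v) at h2
    change x 39 v ∈ fix φ at hv
    rw [mem_fix, h2] at hv
    exact x_injective (by norm_num) hv
  obtain ⟨t, ht⟩ := htr v hv'
  have h3 := h40 t (-φ t) (by rw [r1]; exact mem40 hφφ t)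
  have h4 := h29 1 1 (by rw [r3]; exact h1)
  rw [r1] at h3
  rw [r3] at h4
  have h5 := M.mul_mem (M.mul_mem (M.mul_mem h4 h3) (M.inv_mem h4)) (M.inv_mem h3)
  change (x 29 1 * x 34 1) * (x 40 t * x 43 (-φ t)) * (x 29 1 * x 34 1)⁻¹ * (x 40 t * x 43 (-φ t))⁻¹ ∈ M at h5
  rw [commutator_eq, sub_neg_eq_add, ht] at h5
  exact h5

/-! ### the torus element -/

theorem hG_conj {i s : ℕ} (hi : i < 6) (hs : s < 72) {c : K} (hc : c ≠ 0) (t : K) :
    hG hE6 (chevE6.simple i) c * x s t * (hG hE6 (chevE6.simple i) c)⁻¹ = x s (c ^ (chevE6.cartan i s) * t) := by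
  rw [mul_inv_eq_iff_eq_mul]
  exact Units.ext (Cfsg.Agent.S1032.result chevE6 hE6 i s hi hs c hc t)

/-- the torus element `h_{p₁}(c) h_{p₆}(φ c)` -/
def hh (φ : K →+* K) (c : K) : GL chevE6.Idx K := hG hE6 56 c * hG hE6 36 (φ c)

theorem hh_conj {s : ℕ} (hs : s < 72) {c : K} (hc : c ≠ 0) (t : K) : hh φ c * x s t * (hh φ c)⁻¹ =
    x s (c ^ (chevE6.cartan 0 s) * ((φ c) ^ (chevE6.cartan 5 s) * t)) := by
  have hc' : φ c ≠ 0 := (map_ne_zero φ).2 hc
  have e : hh φ c * x s t * (hh φ c)⁻¹ =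
      hG hE6 (chevE6.simple 0) c * (hG hE6 (chevE6.simple 5) (φ c) * x s t * (hG hE6 (chevE6.simple 5) (φ c))⁻¹) *
        (hG hE6 (chevE6.simple 0) c)⁻¹ := by
    show (hG hE6 56 c * hG hE6 36 (φ c)) * x s t * (hG hE6 56 c * hG hE6 36 (φ c))⁻¹ =
      hG hE6 56 c * (hG hE6 36 (φ c) * x s t * (hG hE6 36 (φ c))⁻¹) * (hG hE6 56 c)⁻¹
    group
  rw [e, hG_conj (by norm_num) hs hc', hG_conj (by norm_num) hs hc]

theorem hh_mem_diag {c : K} (hc : c ≠ 0) : hh φ c ∈ chevE6.diagonalSubgroup K :=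
  mul_mem (hG_mem_diagonal hE6 (by decide) hc) (hG_mem_diagonal hE6 (by decide) ((map_ne_zero φ).2 hc))

theorem pair_n_mem (hφ : ∀ t, φ t = t ^ q) (c : K) : nG hE6 56 c * nG hE6 36 (φ c) ∈ twistedE6 K q := by
  have h1 : nG hE6 56 c = x 56 c * (x 15 (-c⁻¹) * x 56 c) := nG_def hE6 56 c
  have h2 : nG hE6 36 (φ c) = x 36 (φ c) * (x 35 (-(φ c)⁻¹) * x 36 (φ c)) := nG_def hE6 36 (φ c)
  rw [h1, h2, Cfsg.Agent.ChevalleyStructure.TwistedE6G.four_comm
    (Cfsg.Agent.ChevalleyStructure.TwistedE6G.comm_pair (p := (56, 36)) (by decide) _ _)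
    (Cfsg.Agent.ChevalleyStructure.TwistedE6G.comm_pair (p := (56, 35)) (by decide) _ _)
    (Cfsg.Agent.ChevalleyStructure.TwistedE6G.comm_pair (p := (15, 36)) (by decide) _ _)]
  have h3 := pair_mem (K := K) (q := q) c (rs := (56, 36)) (by simp)
  have h4 := pair_mem (K := K) (q := q) (-c⁻¹) (rs := (15, 35)) (by simp)
  rw [← hφ] at h3 h4
  rw [map_neg, map_inv₀] at h4
  exact mul_mem (mul_mem h3 h4) h3

theorem hh_mem (hφ : ∀ t, φ t = t ^ q) (c : K) : hh φ c ∈ twistedE6 K q := by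
  have e : hh φ c = (nG hE6 56 c * nG hE6 36 (φ c)) * (nG hE6 56 (-1) * nG hE6 36 (φ (-1))) := by
    have h1 : nG hE6 56 (-1 : K) * nG hE6 36 (φ c) = nG hE6 36 (φ c) * nG hE6 56 (-1) := by
      have h1 : nG hE6 56 (-1 : K) = x 56 (-1) * (x 15 (-(-1)⁻¹) * x 56 (-1)) := nG_def hE6 56 (-1)
      have h2 : nG hE6 36 (φ c) = x 36 (φ c) * (x 35 (-(φ c)⁻¹) * x 36 (φ c)) := nG_def hE6 36 (φ c)
      have k1 : ∀ t u : K, Commute (x 56 t) (x 36 u) := fun t u =>
        Cfsg.Agent.ChevalleyStructure.TwistedE6G.comm_pair (p := (56, 36)) (by decide) t u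
      have k2 : ∀ t u : K, Commute (x 56 t) (x 35 u) := fun t u =>
        Cfsg.Agent.ChevalleyStructure.TwistedE6G.comm_pair (p := (56, 35)) (by decide) t u
      have k3 : ∀ t u : K, Commute (x 15 t) (x 36 u) := fun t u =>
        Cfsg.Agent.ChevalleyStructure.TwistedE6G.comm_pair (p := (15, 36)) (by decide) t u
      have k4 : ∀ t u : K, Commute (x 15 t) (x 35 u) := fun t u =>
        (comm_class (K := K) (i := 3) (r := 35) (s := 15) (by decide +kernel) (by decide +kernel) (by decide)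
          (by decide +kernel) u t)
      have m1 : ∀ t, Commute (x 56 t) (nG hE6 36 (φ c)) := fun t => by
        rw [h2]; exact (k1 _ _).mul_right ((k2 _ _).mul_right (k1 _ _))
      have m2 : ∀ t, Commute (x 15 t) (nG hE6 36 (φ c)) := fun t => by
        rw [h2]; exact (k3 _ _).mul_right ((k4 _ _).mul_right (k3 _ _))
      rw [h1]
      exact (Commute.mul_left (m1 _) (Commute.mul_left (m2 _) (m1 _))).eq
    have h3 : φ (-1 : K) = -1 := by rw [map_neg, map_one]
    show hG hE6 56 c * hG hE6 36 (φ c) = _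
    rw [hG_def, hG_def, h3]
    calc nG hE6 56 c * nG hE6 56 (-1) * (nG hE6 36 (φ c) * nG hE6 36 (-1))
        = nG hE6 56 c * (nG hE6 56 (-1) * nG hE6 36 (φ c)) * nG hE6 36 (-1) := by group
      _ = _ := by rw [h1]; group
  rw [e]
  exact mul_mem (pair_n_mem hφ c) (pair_n_mem hφ (-1))

theorem w_mem (hφ : ∀ t, φ t = t ^ q) : w K ∈ twistedE6 K q := by
  have hneg : (-1 : K) ^ q = -1 := by rw [← hφ, map_neg, map_one]
  have h := Cfsg.Agent.ChevalleyStructure.TwistedE6G.nJ_mem (K := K) (q := q) hneg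
  have h0 : n (K := K) 0 ∈ twistedE6 K q := h [1] (by decide)
  have h1 : n (K := K) 1 ∈ twistedE6 K q := h [3] (by decide)
  have h2 : n (K := K) 2 ∈ twistedE6 K q := h [2, 4] (by decide)
  have h3 : n (K := K) 3 ∈ twistedE6 K q := h [0, 5] (by decide)
  exact mul_mem (mul_mem (mul_mem h0 h1) h2) h3

theorem n_mem_mono (i : Fin 4) : n (K := K) i ∈ chevE6.monomialSubgroup K := by
  rw [n_def]
  apply Subgroup.list_prod_mem
  intro g hg
  rw [List.mem_map] at hg
  obtain ⟨j, hj, rfl⟩ := hg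
  refine nG_one_mem_monomial hE6 ?_
  have : ∀ j : Fin 6, chevE6.simple j.val < 72 := by decide
  exact this ⟨j, (J_mem i j hj).1⟩

theorem w_mono : w K ∈ chevE6.monomialSubgroup K :=
  mul_mem (mul_mem (mul_mem (n_mem_mono 0) (n_mem_mono 1)) (n_mem_mono 2)) (n_mem_mono 3)

theorem conj_mem_diag {g h : GL chevE6.Idx K} (hg : g ∈ chevE6.monomialSubgroup K)
    (hh : h ∈ chevE6.diagonalSubgroup K) : g * h * g⁻¹ ∈ chevE6.diagonalSubgroup K := by
  have hN := Cfsg.Agent.S1038.result (F := K) chevE6 hE6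
  have hh' : h ∈ chevE6.monomialSubgroup K := Cfsg.Agent.ChevalleyStructure.Elts.diagonal_le_monomial chevE6 K hh
  have := hN.conj_mem ⟨h, hh'⟩ hh ⟨g, hg⟩
  exact this

theorem diag_of {g : GL chevE6.Idx K} (hg : g ∈ chevE6.diagonalSubgroup K) :
    ∃ d : chevE6.Idx → K, (g : Matrix chevE6.Idx chevE6.Idx K) = Matrix.diagonal d := by
  obtain ⟨c, hc, e⟩ := Cfsg.Agent.S1034.result (F := K) chevE6 hE6 g hg
  have key : ∀ L : List ℕ, (∀ i ∈ L, i < chevE6.rank) → ∃ d : chevE6.Idx → K,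
      chevE6.wordMat K (L.flatMap fun i => chevE6.hWord (chevE6.simple i) (c i)) = Matrix.diagonal d := by
    intro L
    induction L with
    | nil => intro _; exact ⟨fun _ => 1, by
        rw [List.flatMap_nil, Cfsg.Agent.ChevalleyStructure.Elts.wordMat_nil]; exact Matrix.diagonal_one.symm⟩
    | cons i L ih =>
      intro hL
      have hi := hL i List.mem_cons_self
      obtain ⟨d, hd⟩ := ih fun j hj => hL j (List.mem_cons_of_mem _ hj)
      rw [List.flatMap_cons, Cfsg.Agent.ChevalleyStructure.Elts.wordMat_append, hd]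
      have h1 := Cfsg.Agent.S1033.result (F := K) chevE6 hE6 i hi (c i) (hc i hi)
      have h2 : chevE6.wordMat K (chevE6.hWord (chevE6.simple i) (c i)) = chevE6.hMat K (chevE6.simple i) (c i) := rfl
      rw [h2, h1, Matrix.diagonal_mul_diagonal]
      exact ⟨_, rfl⟩
  obtain ⟨d, hd⟩ := key _ fun i hi => List.mem_range.1 hi
  exact ⟨d, e.trans hd⟩

theorem diag_comm {g h : GL chevE6.Idx K} (hg : g ∈ chevE6.diagonalSubgroup K)
    (hh : h ∈ chevE6.diagonalSubgroup K) : g * h = h * g := by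
  obtain ⟨d, hd⟩ := diag_of hg
  obtain ⟨e, he⟩ := diag_of hh
  apply Units.ext
  rw [Units.val_mul, Units.val_mul, hd, he, Matrix.diagonal_mul_diagonal, Matrix.diagonal_mul_diagonal]
  congr 1
  funext i
  exact mul_comm _ _

theorem h1_conj (s : Fin 72) {c : K} (hc : c ≠ 0) (t : K) :
    (w K * hh φ c * (w K)⁻¹) * x (W s).val t * (w K * hh φ c * (w K)⁻¹)⁻¹ =
      x (W s).val (c ^ (chevE6.cartan 0 s.val) * ((φ c) ^ (chevE6.cartan 5 s.val) * t)) := by
  obtain ⟨η, hη, h⟩ := w_conj (K := K) s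
  have e0 : x (W s).val t = w K * x s.val (η⁻¹ * t) * (w K)⁻¹ := by
    rw [h, mul_inv_cancel_left₀ hη]
  have e1 : (w K * hh φ c * (w K)⁻¹) * x (W s).val t * (w K * hh φ c * (w K)⁻¹)⁻¹ =
      w K * (hh φ c * x s.val (η⁻¹ * t) * (hh φ c)⁻¹) * (w K)⁻¹ := by
    rw [e0]; group
  rw [e1, hh_conj s.isLt hc, h]
  congr 1
  calc η * (c ^ chevE6.cartan 0 s.val * (φ c ^ chevE6.cartan 5 s.val * (η⁻¹ * t)))
      = (η * η⁻¹) * (c ^ chevE6.cartan 0 s.val * (φ c ^ chevE6.cartan 5 s.val * t)) := by ring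
    _ = _ := by rw [mul_inv_cancel₀ hη, one_mul]

/-! ### the short root group -/

/-- the root elements `P t` -/
def P (φ : K →+* K) (t : K) : GL chevE6.Idx K := x 56 t * x 36 (φ t)

theorem P_add (t u : K) : P φ t * P φ u = P φ (t + u) := by
  unfold P
  rw [map_add, ← x_add, ← x_add]
  calc x 56 t * x 36 (φ t) * (x 56 u * x 36 (φ u)) = x 56 t * (x 36 (φ t) * x 56 u) * x 36 (φ u) := by group
    _ = _ := by rw [c56]; group

theorem P_zero : P φ 0 = 1 := by
  unfold P
  rw [map_zero, x_zero, x_zero, one_mul]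

theorem P_inv (t : K) : (P φ t)⁻¹ = P φ (-t) := by
  rw [inv_eq_iff_mul_eq_one, P_add, add_neg_cancel, P_zero]

theorem P_inj {t u : K} (h : P φ t = P φ u) : t = u := (pair_inj h).1

/-- the short root group -/
def XS (φ : K →+* K) : Subgroup (GL chevE6.Idx K) where
  carrier := {g | ∃ t, g = P φ t}
  mul_mem' := by
    rintro _ _ ⟨t, rfl⟩ ⟨u, rfl⟩
    exact ⟨t + u, P_add t u⟩
  one_mem' := ⟨0, P_zero.symm⟩
  inv_mem' := by
    rintro _ ⟨t, rfl⟩
    exact ⟨-t, P_inv t⟩

theorem hh_P {c : K} (hc : c ≠ 0) (t : K) : hh φ c * P φ t * (hh φ c)⁻¹ = P φ (c ^ 2 * t) := by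
  have e : hh φ c * P φ t * (hh φ c)⁻¹ = (hh φ c * x 56 t * (hh φ c)⁻¹) * (hh φ c * x 36 (φ t) * (hh φ c)⁻¹) := by
    unfold P; group
  have c1 : chevE6.cartan 0 56 = 2 ∧ chevE6.cartan 5 56 = 0 ∧ chevE6.cartan 0 36 = 0 ∧ chevE6.cartan 5 36 = 2 := by
    decide +kernel
  rw [e, hh_conj (by norm_num) hc, hh_conj (by norm_num) hc, c1.1, c1.2.1, c1.2.2.1, c1.2.2.2]
  unfold P
  have z2 : ∀ y : K, y ^ (2 : ℤ) = y ^ 2 := fun y => by norm_cast
  rw [map_mul, map_pow, zpow_zero, zpow_zero, one_mul, one_mul, z2, z2]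

theorem h1_P {c : K} (hc : c ≠ 0) (t : K) :
    (w K * hh φ c * (w K)⁻¹) * P φ t * (w K * hh φ c * (w K)⁻¹)⁻¹ = P φ (c⁻¹ * t) := by
  have e : (w K * hh φ c * (w K)⁻¹) * P φ t * (w K * hh φ c * (w K)⁻¹)⁻¹ =
      ((w K * hh φ c * (w K)⁻¹) * x 56 t * (w K * hh φ c * (w K)⁻¹)⁻¹) *
        ((w K * hh φ c * (w K)⁻¹) * x 36 (φ t) * (w K * hh φ c * (w K)⁻¹)⁻¹) := by
    unfold P; group
  have c1 : chevE6.cartan 0 42 = -1 ∧ chevE6.cartan 5 42 = 0 ∧ chevE6.cartan 0 37 = 0 ∧ chevE6.cartan 5 37 = -1 := by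
    decide +kernel
  have w1 : W 42 = 56 ∧ W 37 = 36 := by decide +kernel
  have h1 := h1_conj (φ := φ) (42 : Fin 72) hc t
  have h2 := h1_conj (φ := φ) (37 : Fin 72) hc (φ t)
  rw [w1.1] at h1
  rw [w1.2] at h2
  change (w K * hh φ c * (w K)⁻¹) * x 56 t * (w K * hh φ c * (w K)⁻¹)⁻¹ =
      x 56 (c ^ (chevE6.cartan 0 42) * ((φ c) ^ (chevE6.cartan 5 42) * t)) at h1
  change (w K * hh φ c * (w K)⁻¹) * x 36 (φ t) * (w K * hh φ c * (w K)⁻¹)⁻¹ =
      x 36 (c ^ (chevE6.cartan 0 37) * ((φ c) ^ (chevE6.cartan 5 37) * φ t)) at h2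
  rw [e, h1, h2, c1.1, c1.2.1, c1.2.2.1, c1.2.2.2]
  unfold P
  rw [map_mul, map_inv₀, zpow_zero, zpow_zero, zpow_neg_one, zpow_neg_one, one_mul, one_mul]

/-- the parameters of the elements `P φ t` of a subgroup -/
def par (φ : K →+* K) (S : Subgroup (GL chevE6.Idx K)) : AddSubgroup K where
  carrier := {t | P φ t ∈ S}
  add_mem' := by
    intro a b ha hb
    show P φ (a + b) ∈ S
    rw [← P_add]; exact S.mul_mem ha hb
  zero_mem' := by
    show P φ 0 ∈ S
    rw [P_zero]; exact S.one_mem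
  neg_mem' := by
    intro a ha
    show P φ (-a) ∈ S
    rw [← P_inv]; exact S.inv_mem ha

theorem irr [Finite K] {c : Kˣ} (hc : ∀ x : Kˣ, x ∈ Subgroup.zpowers c) (Z : Subgroup (GL chevE6.Idx K))
    (hZ : Z ≤ XS φ) (h : ∀ y ∈ Z, hh φ (c : K) * y * (hh φ (c : K))⁻¹ ∈ Z) : Z = ⊥ ∨ Z = XS φ := by
  rcases FieldLem.eq_bot_or_top hc (par φ Z) (by
    intro a ha
    have := h _ ha
    rwa [hh_P c.ne_zero] at this) with h1 | h1
  · left
    rw [eq_bot_iff]
    intro g hg
    obtain ⟨t, rfl⟩ := hZ hg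
    have : t ∈ par φ Z := hg
    rw [h1, AddSubgroup.mem_bot] at this
    rw [this, P_zero]
    exact Subgroup.mem_bot.2 rfl
  · right
    apply le_antisymm hZ
    rintro _ ⟨t, rfl⟩
    have : t ∈ par φ Z := by rw [h1]; exact AddSubgroup.mem_top t
    exact this

set_option maxRecDepth 100000 in
theorem W_vals : W^[5] 36 = 29 ∧ W^[6] 36 = 15 ∧ W^[8] 36 = 40 ∧ W^[11] 36 = 37 ∧ W^[5] 39 = 25 ∧ W^[6] 39 = 32 ∧
    W^[11] 39 = 46 ∧ rho 29 = 34 ∧ rho 15 = 35 ∧ rho 37 = 42 ∧ rho 36 = 56 := by decide +kernel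

theorem main {K : Type u} [Field K] [Fintype K] {q : ℕ} (hq : IsPrimePow q) (hK : Fintype.card K = q ^ 2) :
    ∃ a b : GL chevE6.Idx K, a ∈ twistedE6 K q ∧ b ∈ twistedE6 K q ∧ twistedE6 K q ≤ Subgroup.closure {a, b} := by
  obtain ⟨φ, hφ, hqq⟩ := exists_frob hq hK
  have hfix := twisted_le_fix φ hφ hqq
  have hφφ : ∀ t, φ (φ t) = t := by intro t; rw [hφ, hφ, hqq]
  have hq2 : 2 ≤ q := hq.two_le
  have hq3 : 2 ^ 2 ≤ q ^ 2 := Nat.pow_le_pow_left hq2 2
  obtain ⟨c, hc⟩ := IsCyclic.exists_generator (α := Kˣ)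
  have hc0 : (c : K) ≠ 0 := c.ne_zero
  have hord : orderOf c = q ^ 2 - 1 := by
    rw [orderOf_eq_card_of_forall_mem_zpowers hc, Nat.card_units, Nat.card_eq_fintype_card, hK]
  have hc2 : (c : K) ^ 2 ≠ 1 := by
    intro h1
    have h2 : c ^ 2 = 1 := Units.ext (by rw [Units.val_pow_eq_pow_val, h1, Units.val_one])
    have := Nat.le_of_dvd (by norm_num) (orderOf_dvd_of_pow_eq_one h2)
    omega
  have hc1 : (c : K) ≠ 1 := by
    intro h; apply hc2; rw [h, one_pow]
  have hwT := w_mem (K := K) hφ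
  have hhT := hh_mem (K := K) hφ (c : K)
  have hPT : P φ 1 ∈ twistedE6 K q := by
    have := pair_mem (K := K) (q := q) (1 : K) (rs := (56, 36)) (by simp)
    rw [← hφ] at this
    exact this
  refine ⟨hh φ (c : K), P φ 1 * w K, hhT, mul_mem hPT hwT, ?_⟩
  set M := Subgroup.closure {hh φ (c : K), P φ 1 * w K} with hM
  have ha : hh φ (c : K) ∈ M := Subgroup.subset_closure (by simp)
  have hb : P φ 1 * w K ∈ M := Subgroup.subset_closure (by simp)
  obtain ⟨hXM, hwM⟩ := TwoGen.torus_trick M (XS φ) (h := hh φ (c : K)) (w := w K) (u := P φ 1) ha hb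
    ⟨1, rfl⟩
    (by
      rintro _ ⟨t, rfl⟩
      exact ⟨_, h1_P hc0 t⟩)
    (by
      rintro _ ⟨t, rfl⟩
      refine ⟨(c : K) * t, ?_⟩
      have h := h1_P (φ := φ) hc0 ((c : K) * t)
      rw [inv_mul_cancel_left₀ hc0] at h
      rw [← h]; group)
    (irr hc)
    ⟨P φ 1, ⟨1, rfl⟩, fun h => by
      have h2 := hh_P (φ := φ) hc0 1
      rw [h, mul_inv_cancel_right] at h2
      have h3 := P_inj h2
      rw [mul_one] at h3
      exact hc2 h3.symm⟩
    (by
      rintro _ ⟨t, rfl⟩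
      exact ⟨_, hh_P hc0 t⟩)
    (diag_comm (hh_mem_diag hc0) (conj_mem_diag w_mono (hh_mem_diag hc0)))
    (fun h => by
      have h2 := h1_P (φ := φ) hc0 1
      rw [h, mul_inv_cancel_right] at h2
      have h3 := P_inj h2
      rw [mul_one] at h3
      exact hc1 (inv_eq_one.1 h3.symm))
  have hwf : w K ∈ fix φ := hfix hwT
  obtain ⟨w1, w2, w3, w4, w5, w6, w7, r1, r2, r3, r4⟩ := W_vals
  have h36 : Short φ M 36 := by
    intro a b hab
    rw [r4] at hab ⊢
    change x 36 a * x 56 b ∈ fix φ at hab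
    change x 36 a * x 56 b ∈ M
    rw [c56] at hab ⊢
    rw [fix56 hab]
    exact hXM ⟨b, rfl⟩
  have h29 : Short φ M 29 := by rw [← w1]; exact Short.iter hwM hwf h36 5
  have h15 : Short φ M 15 := by rw [← w2]; exact Short.iter hwM hwf h36 6
  have h40 : Short φ M 40 := by rw [← w3]; exact Short.iter hwM hwf h36 8
  have h37 : Short φ M 37 := by rw [← w4]; exact Short.iter hwM hwf h36 11
  have h39 : Long φ M 39 := by
    refine long39 hφφ (fun v hv => FieldLem.exists_trace_two hq2 hK φ hφ hv) h40 h29 ?_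
    have := pair_mem (K := K) (q := q) (1 : K) (rs := (29, 34)) (by simp)
    rw [one_pow] at this
    exact hfix this
  have h25 : Long φ M 25 := by rw [← w5]; exact Long.iter hwM hwf h39 5
  have h32 : Long φ M 32 := by rw [← w6]; exact Long.iter hwM hwf h39 6
  have h46 : Long φ M 46 := by rw [← w7]; exact Long.iter hwM hwf h39 11
  rw [twisted_le_iff]
  constructor
  · intro t ht r hr
    have hf : x r t ∈ fix φ := hfix (single_mem ht hr)
    simp only [List.mem_cons, List.not_mem_nil, or_false] at hr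
    rcases hr with rfl | rfl | rfl | rfl
    · exact h46 t hf
    · exact h25 t hf
    · exact h39 t hf
    · exact h32 t hf
  · intro t rs hr
    have hf : x rs.1 t * x rs.2 (t ^ q) ∈ fix φ := hfix (pair_mem t hr)
    simp only [List.mem_cons, List.not_mem_nil, or_false] at hr
    rcases hr with rfl | rfl | rfl | rfl
    · rw [← hφ]
      exact hXM ⟨t, rfl⟩
    · exact h15 t (t ^ q) hf
    · have hcm : x 42 t * x 37 (t ^ q) = x 37 (t ^ q) * x 42 t :=
        comm_class (K := K) (i := 2) (r := 37) (s := 42) (by decide +kernel) (by decide +kernel) (by decide)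
          (by decide +kernel) _ _
      change x 42 t * x 37 (t ^ q) ∈ fix φ at hf
      change x 42 t * x 37 (t ^ q) ∈ M
      rw [hcm] at hf ⊢
      exact h37 (t ^ q) t hf
    · exact h29 t (t ^ q) hf

end Cfsg.Agent.H136.TwE6
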